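import Groth.Agent.Lib.LocalHilb26.HilbStalk
import Groth.Agent.Lib.OmegaBC.Section
import Groth.Agent.Lib.DeformIso.Basic
import Groth.Agent.Lib.MonoidUnits.Open
import Groth.Prelude.Def_ArtFun6
import Mathlib.AlgebraicGeometry.Morphisms.Separated

/-!
# First order deformations of a morphism as deformations of its graph
-/

set_option autoImplicit false
set_option backward.isDefEq.respectTransparency false
universe u

noncomputable section

open CategoryTheory CategoryTheory.Limits AlgebraicGeometry

namespace GrothLib.HomTan26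

/-- The kernel of a section is compatible with base change. -/
theorem ker_comap_section {X X' P P' : Scheme.{u}} {a : X' ⟶ X} {b : P' ⟶ P} {π : P ⟶ X} {π' : P' ⟶ X'}
    (H : IsPullback b π' π a) {σ : X ⟶ P} {σ' : X' ⟶ P'} [IsClosedImmersion σ] (hσ : σ ≫ π = 𝟙 _)
    (hσ' : σ' ≫ π' = 𝟙 _) (w : σ' ≫ b = a ≫ σ) : σ.ker.comap b = σ'.ker := by
  have sq : IsPullback σ' a b σ := by
    refine IsPullback.of_right ?_ w H.flip
    rw [hσ, hσ']
    exact IsPullback.of_horiz_isIso ⟨by simp⟩
  rw [← Scheme.IdealSheafData.ker_fst_of_isClosedImmersion σ b, ← sq.isoPullback_hom_fst,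
    Scheme.Hom.ker_comp_of_isIso]

variable {k : Type u} [Field k] {X Y : Scheme.{u}} (x : X ⟶ ArtFun.Art.specPt k) (y : Y ⟶ ArtFun.Art.specPt k)

open _root_.ArtFun _root_.ArtFun.Art

/-- `X ×_k Y`. -/
abbrev P : Scheme.{u} := pullback x y

/-- The structure map of `X ×_k Y`. -/
abbrev p : P x y ⟶ specPt k := pullback.fst x y ≫ x

/-- The graph. -/
def gr (f : X ⟶ Y) (hf : f ≫ y = x) : X ⟶ P x y := pullback.lift (𝟙 X) f (by rw [hf, Category.id_comp])

theorem gr_fst (f : X ⟶ Y) (hf : f ≫ y = x) : gr x y f hf ≫ pullback.fst x y = 𝟙 X := pullback.lift_fst _ _ _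

theorem gr_snd (f : X ⟶ Y) (hf : f ≫ y = x) : gr x y f hf ≫ pullback.snd x y = f := pullback.lift_snd _ _ _

theorem gr_p (f : X ⟶ Y) (hf : f ≫ y = x) : gr x y f hf ≫ p x y = x := by
  rw [← Category.assoc, gr_fst, Category.id_comp]

instance [IsSeparated y] (f : X ⟶ Y) (hf : f ≫ y = x) : IsClosedImmersion (gr x y f hf) := by
  haveI : IsClosedImmersion (gr x y f hf ≫ pullback.fst x y) := by rw [gr_fst]; infer_instance
  exact IsClosedImmersion.of_comp (gr x y f hf) (pullback.fst x y)

section OverA

variable (A : Art k k)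

/-- The projection `(X ×_k Y)_A ⟶ X_A`. -/
def toXA : XA (p x y) A ⟶ XA x A :=
  pullback.lift (pullback.fst (p x y) (specOver A) ≫ pullback.fst x y) (pullback.snd (p x y) (specOver A))
    ((Category.assoc _ _ _).trans pullback.condition)

theorem toXA_fst : toXA x y A ≫ pullback.fst x (specOver A) =
    pullback.fst (p x y) (specOver A) ≫ pullback.fst x y := pullback.lift_fst _ _ _

theorem toXA_pr : toXA x y A ≫ XApr x A = XApr (p x y) A := pullback.lift_snd _ _ _

theorem isPullback_toXA : IsPullback (pullback.fst (p x y) (specOver A)) (toXA x y A) (pullback.fst x y)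
    (pullback.fst x (specOver A)) := by
  refine IsPullback.of_bot ?_ (toXA_fst x y A).symm (IsPullback.of_hasPullback x (specOver A))
  rw [toXA_pr]
  exact IsPullback.of_hasPullback (p x y) (specOver A)

instance [IsSeparated y] : IsSeparated (toXA x y A) :=
  MorphismProperty.of_isPullback (P := @IsSeparated) (isPullback_toXA x y A) inferInstance

theorem isPullback_toXA_incl : IsPullback (XAincl (p x y) A) (pullback.fst x y) (toXA x y A) (XAincl x A) := by
  refine IsPullback.of_bot ?_ ?_ (isPullback_XAincl x A)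
  · rw [toXA_pr]
    exact isPullback_XAincl (p x y) A
  · apply pullback.hom_ext
    · rw [Category.assoc, toXA_fst, ← Category.assoc, XAincl_fst, Category.assoc, XAincl_fst, Category.id_comp,
        Category.comp_id]
    · rw [Category.assoc, toXA_pr, XAincl_snd, Category.assoc]
      exact ((Category.assoc _ _ _).symm.trans rfl).trans (congrArg (pullback.fst x y ≫ ·) (XAincl_snd x A)).symm

theorem isPullback_toXA_map {B : Art k k} (g : A ⟶ B) :
    IsPullback (XAmap (p x y) g) (toXA x y B) (toXA x y A) (XAmap x g) := by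
  refine IsPullback.of_bot ?_ ?_ (isPullback_XAmap x g)
  · rw [toXA_pr, toXA_pr]
    exact isPullback_XAmap (p x y) g
  · apply pullback.hom_ext
    · rw [Category.assoc, toXA_fst, ← Category.assoc, XAmap_fst, Category.assoc, XAmap_fst, toXA_fst]
    · rw [Category.assoc, toXA_pr, XAmap_snd, Category.assoc, XAmap_snd, ← Category.assoc, toXA_pr]

/-- The graph of a family of morphisms over `A`. -/
def grA (g : XA x A ⟶ Y) (hg : g ≫ y = pullback.fst x (specOver A) ≫ x) : XA x A ⟶ XA (p x y) A :=
  pullback.lift (pullback.lift (pullback.fst x (specOver A)) g hg.symm) (XApr x A) (by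
    rw [← Category.assoc, pullback.lift_fst]
    exact pullback.condition)

variable {A}
variable (g : XA x A ⟶ Y) (hg : g ≫ y = pullback.fst x (specOver A) ≫ x)

theorem grA_toXA : grA x y A g hg ≫ toXA x y A = 𝟙 _ := by
  apply pullback.hom_ext
  · rw [Category.assoc, toXA_fst, ← Category.assoc, grA, pullback.lift_fst, pullback.lift_fst, Category.id_comp]
  · rw [Category.assoc, toXA_pr, grA, pullback.lift_snd, Category.id_comp]

theorem grA_snd : grA x y A g hg ≫ pullback.fst (p x y) (specOver A) ≫ pullback.snd x y = g := by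
  rw [← Category.assoc, grA, pullback.lift_fst, pullback.lift_snd]

/-- Maps into `(X ×_k Y)_A` are equal if their projections to `X_A` and to `Y` are. -/
theorem hom_ext_XA {T : Scheme.{u}} {u v : T ⟶ XA (p x y) A} (h1 : u ≫ toXA x y A = v ≫ toXA x y A)
    (h2 : u ≫ pullback.fst (p x y) (specOver A) ≫ pullback.snd x y =
      v ≫ pullback.fst (p x y) (specOver A) ≫ pullback.snd x y) : u = v := by
  refine (isPullback_toXA x y A).hom_ext (pullback.hom_ext ?_ ?_) h1
  · rw [Category.assoc, Category.assoc, ← toXA_fst, ← Category.assoc, h1, Category.assoc]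
  · rw [Category.assoc, Category.assoc, h2]

variable [IsSeparated y]

instance : IsClosedImmersion (grA x y A g hg) := by
  haveI : IsClosedImmersion (grA x y A g hg ≫ toXA x y A) := by rw [grA_toXA]; infer_instance
  exact IsClosedImmersion.of_comp (grA x y A g hg) (toXA x y A)

theorem flatOver_ker : FlatOver (P x y) (p x y) A (grA x y A g hg).ker := by
  show Flat ((grA x y A g hg).imageι ≫ XApr (p x y) A)
  haveI : Flat x := by
    haveI : Subsingleton (specPt k) := inferInstanceAs (Subsingleton (PrimeSpectrum k))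
    haveI : IsIntegral (specPt k) := inferInstanceAs (IsIntegral (Spec (CommRingCat.of k)))
    infer_instance
  have h : Flat ((grA x y A g hg).toImage ≫ (grA x y A g hg).imageι ≫ XApr (p x y) A) := by
    rw [Scheme.Hom.toImage_imageι_assoc, ← toXA_pr, ← Category.assoc, grA_toXA, Category.id_comp]
    exact MorphismProperty.pullback_snd (P := @Flat) _ _ inferInstance
  exact (MorphismProperty.cancel_left_of_respectsIso @Flat (grA x y A g hg).toImage _).1 h

theorem comap_incl_ker (f : X ⟶ Y) (hf : f ≫ y = x) (hgf : XAincl x A ≫ g = f) :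
    (grA x y A g hg).ker.comap (XAincl (p x y) A) = (gr x y f hf).ker := by
  refine ker_comap_section (isPullback_toXA_incl x y A) (grA_toXA x y g hg) (gr_fst x y f hf) ?_
  refine hom_ext_XA x y ?_ ?_
  · rw [Category.assoc, (isPullback_toXA_incl x y A).w, ← Category.assoc, gr_fst, Category.id_comp, Category.assoc,
      grA_toXA, Category.comp_id]
  · rw [Category.assoc (XAincl x A), grA_snd, hgf, Category.assoc, ← Category.assoc (XAincl (p x y) A), XAincl_fst,
      Category.id_comp, gr_snd]

theorem comap_map_ker {B : Art k k} (φ : A ⟶ B) (g' : XA x B ⟶ Y)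
    (hg' : g' ≫ y = pullback.fst x (specOver B) ≫ x) (h : XAmap x φ ≫ g = g') :
    (grA x y A g hg).ker.comap (XAmap (p x y) φ) = (grA x y B g' hg').ker := by
  refine ker_comap_section (isPullback_toXA_map x y A φ) (grA_toXA x y g hg) (grA_toXA x y g' hg') ?_
  refine hom_ext_XA x y ?_ ?_
  · rw [Category.assoc, (isPullback_toXA_map x y A φ).w, ← Category.assoc, grA_toXA, Category.id_comp,
      Category.assoc, grA_toXA, Category.comp_id]
  · rw [Category.assoc (XAmap x φ), grA_snd, h, Category.assoc, ← Category.assoc (XAmap (p x y) φ), XAmap_fst, grA_snd]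

theorem eq_of_ker_eq (g' : XA x A ⟶ Y) (hg' : g' ≫ y = pullback.fst x (specOver A) ≫ x)
    (h : (grA x y A g hg).ker = (grA x y A g' hg').ker) : g = g' := by
  let u := IsClosedImmersion.lift (grA x y A g' hg') (grA x y A g hg) h.ge
  have hu : u ≫ grA x y A g' hg' = grA x y A g hg := IsClosedImmersion.lift_fac _ _ _
  have hu1 : u = 𝟙 _ := by
    have h' := congrArg (· ≫ toXA x y A) hu
    simp only [Category.assoc, grA_toXA, Category.comp_id] at h'
    exact h'
  rw [hu1, Category.id_comp] at hu
  rw [← grA_snd x y g hg, ← grA_snd x y g' hg', hu]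

theorem exists_eq_ker (f : X ⟶ Y) (hf : f ≫ y = x)
    (J : (localHilb (P x y) (p x y) (gr x y f hf).ker).obj A) :
    ∃ (g : XA x A ⟶ Y) (hg : g ≫ y = pullback.fst x (specOver A) ≫ x),
      XAincl x A ≫ g = f ∧ (grA x y A g hg).ker = J.1 := by
  let I₀ := (gr x y f hf).ker
  let q : J.1.subscheme ⟶ XA x A := J.1.subschemeι ≫ toXA x y A
  let iX : I₀.subscheme ⟶ J.1.subscheme := fibreMap J ≫ pullback.snd (XAincl (p x y) A) J.1.subschemeι
  let f₀ : I₀.subscheme ⟶ X := I₀.subschemeι ≫ pullback.fst x y
  have h1 : (gr x y f hf).toImage ≫ f₀ = 𝟙 X := by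
    show (gr x y f hf).toImage ≫ (gr x y f hf).imageι ≫ _ = _
    rw [Scheme.Hom.toImage_imageι_assoc, gr_fst]
  haveI : IsIso f₀ := by
    haveI : IsIso ((gr x y f hf).toImage ≫ f₀) := by rw [h1]; infer_instance
    exact IsIso.of_isIso_comp_left (gr x y f hf).toImage f₀
  have hiX : iX ≫ J.1.subschemeι = I₀.subschemeι ≫ XAincl (p x y) A := by
    show (_ ≫ _) ≫ _ = _
    rw [Category.assoc, ← pullback.condition, ← Category.assoc, fibreMap_fst]
  have hS : MoreMor.IsFiniteOrderThickening (specRes A) := by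
    refine GrothLib.MonoidUnits.isFiniteOrderThickening_specMap _ A.res_surjective ?_
    obtain ⟨n, hn⟩ := (isArtinianRing_iff_isNilpotent_maximalIdeal A.carrier).1 inferInstance
    refine ⟨n, le_bot_iff.1 (le_trans (Ideal.pow_right_mono ?_ n) hn.le)⟩
    exact fun a ha => (Art.mem_maximalIdeal_iff A a).2 ha
  have hcX : IsPullback iX (f₀ ≫ x) (q ≫ XApr x A) (specRes A) := by
    have h := (objectOf J).isPullback
    show IsPullback iX ((I₀.subschemeι ≫ pullback.fst x y) ≫ x) ((J.1.subschemeι ≫ toXA x y A) ≫ XApr x A) (specRes A)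
    rw [Category.assoc, Category.assoc, toXA_pr]
    exact h
  have w : iX ≫ q = f₀ ≫ XAincl x A := by
    show iX ≫ _ ≫ _ = (_ ≫ _) ≫ _
    rw [← Category.assoc, hiX, Category.assoc, (isPullback_toXA_incl x y A).w, ← Category.assoc]
  haveI : Flat (q ≫ XApr x A) := by
    show Flat ((J.1.subschemeι ≫ toXA x y A) ≫ XApr x A)
    rw [Category.assoc, toXA_pr]
    exact J.2.1
  haveI : IsIso q := GrothLib.DeformIso.isIso_of_isIso_baseChange iX (XAincl x A) (specRes A) f₀ q x (XApr x A) hS
    hcX (isPullback_XAincl x A) w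
  let g : XA x A ⟶ Y := inv q ≫ J.1.subschemeι ≫ pullback.fst (p x y) (specOver A) ≫ pullback.snd x y
  have hg : g ≫ y = pullback.fst x (specOver A) ≫ x := by
    show (inv q ≫ _ ≫ _ ≫ _) ≫ y = _
    simp only [Category.assoc]
    rw [← pullback.condition, ← Category.assoc (pullback.fst (p x y) _), ← toXA_fst, IsIso.inv_comp_eq]
    simp only [q, Category.assoc]
  have hgr : grA x y A g hg = inv q ≫ J.1.subschemeι := by
    refine hom_ext_XA x y ?_ ?_
    · rw [grA_toXA, Category.assoc]
      exact (IsIso.inv_hom_id q).symm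
    · rw [grA_snd, Category.assoc]
  have e1 : XAincl x A ≫ inv q = inv f₀ ≫ iX := by
    rw [IsIso.comp_inv_eq, Category.assoc, w, IsIso.inv_hom_id_assoc]
  refine ⟨g, hg, ?_, ?_⟩
  · show XAincl x A ≫ inv q ≫ _ ≫ _ ≫ _ = f
    rw [← Category.assoc, e1, Category.assoc, ← Category.assoc iX, hiX, Category.assoc,
      ← Category.assoc (XAincl (p x y) A), XAincl_fst, Category.id_comp, IsIso.inv_comp_eq]
    rw [← cancel_epi (gr x y f hf).toImage, ← Category.assoc (gr x y f hf).toImage f₀, h1, Category.id_comp]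
    show (gr x y f hf).toImage ≫ (gr x y f hf).imageι ≫ _ = f
    rw [Scheme.Hom.toImage_imageι_assoc, gr_snd]
  · rw [hgr, Scheme.Hom.ker_comp_of_isIso, Scheme.IdealSheafData.ker_subschemeι]

end OverA

end GrothLib.HomTan26
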