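import Groth.Agent.Lib.HomTan26.Basic
import Groth.Prelude.Def_DCoh4
import Mathlib.CategoryTheory.Monoidal.Cartesian.Over

/-!
# The tangent space of a scheme representing morphisms
-/

set_option autoImplicit false
set_option backward.isDefEq.respectTransparency false
universe u

noncomputable section

open CategoryTheory CategoryTheory.Limits AlgebraicGeometry IsLocalRing MonoidalCategory CartesianMonoidalCategory

namespace GrothLib.HomTan26

open _root_.ArtFun _root_.ArtFun.Art
open GrothLib.LocalHilb26 (artOver artPt XTmap_artMap XTmap_artPt XTmap_comp pointOf pointOf_π pointOf_res pointOf_map)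
open GrothLib.Euler (smulMod)

/-- The conormal sheaf of a graph. -/
theorem nonempty_conormal_gr {k : Type u} [Field k] {X Y : Scheme.{u}} (x : X ⟶ specPt k) (y : Y ⟶ specPt k)
    [IsSeparated y] (f : X ⟶ Y) (hf : f ≫ y = x) :
    Nonempty ((Scheme.Modules.pullback f).obj (Omega.sheaf y) ≅ Omega.conormal (gr x y f hf)) := by
  let c : P x y ⟶ pullback y y := pullback.lift (pullback.fst x y ≫ f) (pullback.snd x y)
    (by rw [Category.assoc, hf, pullback.condition])
  have hc1 : c ≫ pullback.fst y y = pullback.fst x y ≫ f := pullback.lift_fst _ _ _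
  have hc2 : c ≫ pullback.snd y y = pullback.snd x y := pullback.lift_snd _ _ _
  have H : IsPullback c (pullback.fst x y) (pullback.fst y y) f := by
    refine IsPullback.of_right ?_ hc1 (IsPullback.of_hasPullback y y).flip
    rw [hc2, hf]
    exact (IsPullback.of_hasPullback x y).flip
  refine GrothLib.OmegaBC.nonempty_pullback_conormal_section (pullback.diagonal y) (gr x y f hf) (pullback.fst y y)
    (pullback.fst x y) f c H (pullback.diagonal_fst y) (gr_fst x y f hf) ?_
  apply pullback.hom_ext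
  · rw [Category.assoc, hc1, ← Category.assoc, gr_fst, Category.id_comp, Category.assoc, pullback.diagonal_fst,
      Category.comp_id]
  · rw [Category.assoc, hc2, gr_snd, Category.assoc, pullback.diagonal_snd, Category.comp_id]

theorem hasSheafHom_of_iso {X : Scheme.{u}} {M N : X.Modules} (e : M ≅ N) [DCoh.HasSheafHom M] :
    DCoh.HasSheafHom N :=
  ((DCoh.sheafHomAdj M).ofNatIsoLeft ((DCoh.tensorBi (X := X)).mapIso e)).isLeftAdjoint

/-- Sections of sheaves of morphisms out of isomorphic modules. -/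
theorem nonempty_HH_linearEquiv {k : Type u} [Field k] {X : Scheme.{u}} [X.Over (Spec (CommRingCat.of k))]
    {M N : X.Modules} (e : M ≅ N) (G : X.Modules) [DCoh.HasSheafHom M] [DCoh.HasSheafHom N] :
    Nonempty (Coh.HH X ((DCoh.sheafHom M).obj G) 0 ≃ₗ[k] Coh.HH X ((DCoh.sheafHom N).obj G) 0) := by
  refine ⟨{ (GrothLib.LocalHilb26.hhHomEquiv M G).trans ((AddEquiv.mk' e.homFromEquiv fun a b => by
      show e.inv ≫ (a + b) = _
      rw [Preadditive.comp_add]
      rfl).trans (GrothLib.LocalHilb26.hhHomEquiv N G).symm) with map_smul' := fun c s => ?_ }⟩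
  refine (GrothLib.LocalHilb26.hhHomEquiv N G).injective ?_
  show GrothLib.LocalHilb26.hhHomEquiv N G ((GrothLib.LocalHilb26.hhHomEquiv N G).symm _) =
    GrothLib.LocalHilb26.hhHomEquiv N G (Coh.toGlobal (X ↘ Spec (CommRingCat.of k)) c • _)
  rw [GrothLib.LocalHilb26.hhHomEquiv_smul, AddEquiv.apply_symm_apply]
  show e.inv ≫ GrothLib.LocalHilb26.hhHomEquiv M G (Coh.toGlobal (X ↘ Spec (CommRingCat.of k)) c • s) =
    GrothLib.LocalHilb26.hhHomEquiv N G ((GrothLib.LocalHilb26.hhHomEquiv N G).symm _) ≫ _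
  rw [GrothLib.LocalHilb26.hhHomEquiv_smul, AddEquiv.apply_symm_apply]
  exact (Category.assoc _ _ _).symm

section Rep

variable {k : Type u} [Field k] {X Y : Scheme.{u}} (x : X ⟶ specPt k) (y : Y ⟶ specPt k)
  (M : Over (specPt k)) (υ : Over.mk x ⊗ M ⟶ Over.mk y)

theorem whiskerLeft_left {T : Over (specPt k)} (a : T ⟶ M) : (Over.mk x ◁ a).left = PicF.XTmap x a := by
  apply pullback.hom_ext
  · refine Eq.trans ?_ ((pullback.lift_fst _ _ _).trans (Category.comp_id _)).symm
    exact congrArg CommaMorphism.left (whiskerLeft_fst (Over.mk x) a)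
  · refine Eq.trans ?_ (pullback.lift_snd _ _ _).symm
    exact congrArg CommaMorphism.left (whiskerLeft_snd (Over.mk x) a)

theorem existsUnique_of_rep
    (hM : ∀ (T : Over (specPt k)) (φ : Over.mk x ⊗ T ⟶ Over.mk y), ∃! a : T ⟶ M, (Over.mk x ◁ a) ≫ υ = φ)
    (T : Over (specPt k)) (g : pullback x T.hom ⟶ Y) (hg : g ≫ y = pullback.fst x T.hom ≫ x) :
    ∃! a : T ⟶ M, PicF.XTmap x a ≫ υ.left = g := by
  obtain ⟨a, ha, hu⟩ := hM T (Over.homMk g hg)
  refine ⟨a, ?_, fun b hb => hu b (Over.OverMorphism.ext ?_)⟩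
  · show PicF.XTmap x a ≫ υ.left = g
    rw [← whiskerLeft_left]
    exact congrArg CommaMorphism.left ha
  · show (Over.mk x ◁ b).left ≫ υ.left = g
    rw [whiskerLeft_left]
    exact hb

/-- The universal morphism evaluated at an infinitesimal point. -/
theorem finrank_cotangent_of_rep [IsSeparated y] [X.Over (Spec (CommRingCat.of k))]
    (hx : x = X ↘ Spec (CommRingCat.of k))
    (hM : ∀ (T : Over (specPt k)) (φ : Over.mk x ⊗ T ⟶ Over.mk y), ∃! a : T ⟶ M, (Over.mk x ◁ a) ≫ υ = φ)
    (f : X ⟶ Y) (hf : f ≫ y = x) (af : Over.mk (𝟙 (specPt k)) ⟶ M)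
    (haf : PicF.XTmap x af ≫ υ.left = pullback.fst x (Over.mk (𝟙 (specPt k))).hom ≫ f)
    [DCoh.HasSheafHom ((Scheme.Modules.pullback f).obj (Omega.sheaf y))] :
    Module.finrank (ResidueField (M.left.presheaf.stalk (af.left (closedPoint k))))
        (CotangentSpace (M.left.presheaf.stalk (af.left (closedPoint k)))) =
      Module.finrank k (Coh.HH X
        ((DCoh.sheafHom ((Scheme.Modules.pullback f).obj (Omega.sheaf y))).obj (Coh.structureModule X)) 0) := by
  have hpt : af.left ≫ M.hom = 𝟙 _ := Over.w af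
  letI := GrothLib.LocalHilb26.stalkAlgebra M.hom af.left
  let res := GrothLib.LocalHilb26.stalkRes M.hom af.left hpt
  let Γ₀ := gr x y f hf
  let gOf : ∀ {A : Art k k}, HomSet (GrothLib.LocalHilb26.ptStalk af.left) res A → (artOver A ⟶ M) :=
    fun φ => Over.homMk (pointOf M.hom af.left φ) (pointOf_π M.hom af.left φ)
  have hgOf : ∀ {A : Art k k} (φ : HomSet (GrothLib.LocalHilb26.ptStalk af.left) res A), artPt A ≫ gOf φ = af :=
    fun φ => Over.OverMorphism.ext (pointOf_res M.hom af.left φ)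
  let ev : ∀ {A : Art k k}, HomSet (GrothLib.LocalHilb26.ptStalk af.left) res A → (XA x A ⟶ Y) :=
    fun φ => PicF.XTmap x (gOf φ) ≫ υ.left
  have hev : ∀ {A : Art k k} (φ : HomSet (GrothLib.LocalHilb26.ptStalk af.left) res A),
      ev φ ≫ y = pullback.fst x (specOver A) ≫ x := by
    intro A φ
    show (PicF.XTmap x (gOf φ) ≫ υ.left) ≫ y = _
    rw [Category.assoc, show υ.left ≫ y = pullback.fst x M.hom ≫ x from Over.w υ, ← Category.assoc]
    exact congrArg (· ≫ x) ((pullback.lift_fst _ _ _).trans (Category.comp_id _))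
  let e₀ : X ⟶ PicF.XT x (Over.mk (𝟙 (specPt k))) :=
    pullback.lift (𝟙 X) x ((Category.id_comp x).trans (Category.comp_id x).symm)
  have he₀ : e₀ ≫ pullback.fst x (Over.mk (𝟙 (specPt k))).hom = 𝟙 X := pullback.lift_fst _ _ _
  haveI : IsIso (pullback.fst x (Over.mk (𝟙 (specPt k))).hom) :=
    inferInstanceAs (IsIso (pullback.fst x (𝟙 (specPt k))))
  have hincl : ∀ (A : Art k k), XAincl x A = e₀ ≫ PicF.XTmap x (artPt A) := by
    intro A
    rw [XTmap_artPt, ← Category.assoc, he₀, Category.id_comp]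
  have hevf : ∀ {A : Art k k} (φ : HomSet (GrothLib.LocalHilb26.ptStalk af.left) res A), XAincl x A ≫ ev φ = f := by
    intro A φ
    show _ ≫ _ ≫ _ = _
    rw [hincl, Category.assoc, ← Category.assoc (PicF.XTmap x (artPt A)), ← XTmap_comp, hgOf, haf, ← Category.assoc,
      he₀, Category.id_comp]
  have hmap : ∀ {A B : Art k k} (φ : A ⟶ B) (ψ : HomSet (GrothLib.LocalHilb26.ptStalk af.left) res A),
      XAmap x φ ≫ ev ψ = ev (HomSet.map φ ψ) := by
    intro A B φ ψ
    show _ ≫ _ ≫ _ = _ ≫ _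
    rw [← XTmap_artMap x φ, ← Category.assoc, ← XTmap_comp]
    refine congrArg (fun a => PicF.XTmap x a ≫ υ.left) (Over.OverMorphism.ext ?_)
    exact (pointOf_map M.hom af.left φ ψ).symm
  let ξ : Family (GrothLib.LocalHilb26.ptStalk af.left) res (localHilb (P x y) (p x y) Γ₀.ker) :=
    ⟨fun A φ => ⟨(grA x y A (ev φ) (hev φ)).ker, flatOver_ker x y _ _, comap_incl_ker x y _ _ f hf (hevf φ)⟩,
      fun {A B} φ ψ => Subtype.ext (comap_map_ker x y (ev ψ) (hev ψ) φ _ _ (hmap φ ψ)).symm⟩
  have hξ : ∀ A, Function.Bijective (ξ.app A) := by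
    intro A
    refine ⟨fun φ ψ e => ?_, fun J => ?_⟩
    · have he := eq_of_ker_eq x y (ev φ) (hev φ) (ev ψ) (hev ψ) (congrArg Subtype.val e)
      obtain ⟨a, -, ha⟩ := existsUnique_of_rep x y M υ hM (artOver A) (ev ψ) (hev ψ)
      exact GrothLib.LocalHilb26.pointOf_injective M.hom af.left
        (congrArg CommaMorphism.left ((ha _ he).trans (ha _ rfl).symm))
    · obtain ⟨g, hg, hgf, hJ⟩ := exists_eq_ker x y f hf J
      obtain ⟨a, ha, -⟩ := existsUnique_of_rep x y M υ hM (artOver A) g hg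
      have hres : artPt A ≫ a = af := by
        obtain ⟨b, -, hb⟩ := existsUnique_of_rep x y M υ hM (Over.mk (𝟙 (specPt k)))
          (pullback.fst x (Over.mk (𝟙 (specPt k))).hom ≫ f) (by rw [Category.assoc, hf])
        refine (hb _ ?_).trans (hb _ haf).symm
        show PicF.XTmap x (artPt A ≫ a) ≫ υ.left = _
        rw [XTmap_comp, Category.assoc, ha, XTmap_artPt, Category.assoc, hgf]
      obtain ⟨φ, hφ⟩ := GrothLib.LocalHilb26.exists_pointOf_eq M.hom af.left (hpt := hpt) a.left (Over.w a)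
        (congrArg CommaMorphism.left hres)
      refine ⟨φ, Subtype.ext ?_⟩
      have hev' : ev φ = g := by
        show PicF.XTmap x (gOf φ) ≫ υ.left = g
        rw [show gOf φ = a from Over.OverMorphism.ext hφ]
        exact ha
      show (grA x y A (ev φ) (hev φ)).ker = J.1
      rw [← hJ]
      congr 1
      simp only [hev']
  have h2 : Heps (localHilb (P x y) (p x y) Γ₀.ker) := fun B A' p' p'' hp =>
    GrothLib.LocalHilb26.bijective_cmp (p x y) Γ₀.ker hp (Art.dual k k).res_surjective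
  obtain ⟨T⟩ := GrothLib.ArtFun.nonempty_tangentStr (GrothLib.LocalHilb26.h0 (p x y) Γ₀.ker) h2
  obtain ⟨ec⟩ := nonempty_conormal_gr x y f hf
  haveI := hasSheafHom_of_iso ec
  obtain ⟨e1⟩ := GrothLib.LocalHilb26.nonempty_linearEquiv_tangent' (p x y) Γ₀
    ((gr_p x y f hf).trans hx)
  obtain ⟨e2⟩ := nonempty_HH_linearEquiv (k := k) ec (Coh.structureModule X)
  obtain ⟨e⟩ := GrothLib.LocalHilb26.nonempty_dual_equiv_tangent res ξ (hξ _)
  refine (GrothLib.LocalHilb26.finrank_residueField_cotangent res).trans ?_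
  rw [← Subspace.dual_finrank_eq, e.finrank_eq, e1.finrank_eq, e2.finrank_eq]

end Rep

end GrothLib.HomTan26
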